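import Cfsg.Prelude.Def_ChevF4
import Cfsg.Prelude.Def_ChevWords
import Cfsg.Agent.ChevFast.F4
import Cfsg.Agent.Prune
set_option linter.all false
prune_inst 0x7f00000000000000000000000000000000000000000000000000000000000000000000000000000000000000000000000000000000000000000000000000000000000000000000000000000000000000003fffffffffdfffffffffffffffffbeffbdffffffff
open scoped Cfsg.Agent.FastGrp

/-!
# The 26-dimensional submodule of the Lie algebra of type `F₄` in characteristic 2 (helper969)

`inW` : the coordinates `h_{p₁}`, `h_{p₂}` and `e_s`, `s` a short root; `x_block` : in characteristic 2 the matrices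
`x_r(t)` leave the span of these coordinates invariant (`BlockZ`).
-/

set_option autoImplicit false

namespace Cfsg.Agent.H969.TwF

open Cfsg.Lie

/-- the short roots -/
def sh (s : ℕ) : Bool :=
  ((chevF4.coroot.getD s #[]).getD 2 0) % 2 == 0 && ((chevF4.coroot.getD s #[]).getD 3 0) % 2 == 0

/-- the coordinates of the submodule -/
def inW : chevF4.Idx → Bool
  | Sum.inl i => decide (i.val < 2)
  | Sum.inr s => sh s.val

/-- the matrix leaves the coordinate subspace invariant -/
def BlockZ {K : Type*} [Field K] (A : Matrix chevF4.Idx chevF4.Idx K) : Prop :=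
  ∀ row col, inW col = true → inW row = false → A row col = 0

theorem chk1 : ((List.range 48).all fun r => sh r || ((List.range 2).all fun i =>
    ((chevF4.cartanSR.getD i #[]).getD r 0) % 2 == 0)) = true := by (delta Cfsg.Agent.H969.TwF.sh; rewrite [Cfsg.Agent.ChevFast.F4.coroot]; (try set_option simprocs false in simp -zeta only [Cfsg.Agent.ChevFast.F4.cartanR]); decide +kernel)

theorem chk2 : ((List.range 48).all fun r => sh (chevF4.negIdx.getD r 0) == sh r) = true := by (delta Cfsg.Agent.H969.TwF.sh; rewrite [Cfsg.Agent.ChevFast.F4.coroot, Cfsg.Agent.ChevFast.F4.negA]; decide +kernel)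

theorem chk3 : ((List.range 48).all fun r => ((chevF4.chain.getD r #[]).toList.all fun e => !sh e.1 ||
    e.2.toList.all fun q => sh q.1 || q.2 % 2 == 0)) = true := by (delta Cfsg.Agent.H969.TwF.sh; rewrite [Cfsg.Agent.ChevFast.F4.chain, Cfsg.Agent.ChevFast.F4.coroot]; decide +kernel)

section

variable {K : Type*} [Field K]

theorem BlockZ.one : BlockZ (1 : Matrix chevF4.Idx chevF4.Idx K) := by
  intro row col hc hr
  have h : row ≠ col := by
    rintro rfl
    rw [hc] at hr
    exact Bool.noConfusion hr
  exact Matrix.one_apply_ne h

theorem BlockZ.mul {A B : Matrix chevF4.Idx chevF4.Idx K} (hA : BlockZ A) (hB : BlockZ B) : BlockZ (A * B) := by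
  intro row col hc hr
  rw [Matrix.mul_apply]
  refine Finset.sum_eq_zero fun k _ => ?_
  by_cases hk : inW k = true
  · rw [hA row k hk hr, zero_mul]
  · rw [hB k col hc (by simpa using hk), mul_zero]

theorem even_cast [CharP K 2] {c : ℤ} (h : (c % 2 == 0) = true) : (c : K) = 0 := by
  have h2 : c % 2 = 0 := by simpa using h
  have h3 : (2 : ℤ) ∣ c := Int.dvd_of_emod_eq_zero h2
  rw [CharP.intCast_eq_zero_iff K 2]
  exact_mod_cast h3

theorem chain_zero [CharP K 2] {r s u : ℕ} (hr : r < 48) (hs : sh s = true) (hu : sh u = false) (t : K) :
    ((chevF4.chainCoeff r s u).map fun km => ((km.2 : ℤ) : K) * t ^ km.1).sum = 0 := by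
  refine List.sum_eq_zero ?_
  intro z hz
  rw [List.mem_map] at hz
  obtain ⟨km, hkm, rfl⟩ := hz
  unfold ChevalleyDatum.chainCoeff at hkm
  rw [List.mem_flatMap] at hkm
  obtain ⟨e, he, hkm⟩ := hkm
  rw [List.mem_filter] at he
  obtain ⟨he1, he2⟩ := he
  rw [List.mem_map] at hkm
  obtain ⟨q, hq, rfl⟩ := hkm
  rw [List.mem_filter] at hq
  obtain ⟨hq1, hq2⟩ := hq
  have h1 := List.all_eq_true.1 chk3 r (List.mem_range.2 hr)
  have h2 := List.all_eq_true.1 h1 e he1
  have he3 : e.1 = s := by simpa using he2
  have hq3 : q.1.1 = u := by simpa using hq2
  rw [he3, hs] at h2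
  have h3 : (e.2.toList.all fun q => sh q.1 || q.2 % 2 == 0) = true := by simpa using h2
  have hq4 : q.1 ∈ e.2.toList := List.fst_mem_of_mem_zipIdx hq1
  have h4 := List.all_eq_true.1 h3 q.1 hq4
  rw [hq3, hu] at h4
  have h5 : (q.1.2 % 2 == 0) = true := by simpa using h4
  show ((q.1.2 : ℤ) : K) * t ^ (q.2 + 1) = 0
  rw [even_cast h5, zero_mul]

/-- **The submodule is invariant.** -/
theorem x_block [CharP K 2] (r : ℕ) (t : K) : BlockZ (chevF4.x K r t) := by
  unfold ChevalleyDatum.x
  split
  · rename_i hr
    have hr48 : r < 48 := hr
    have hneg : sh (chevF4.negIdx.getD r 0) = sh r := by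
      have := List.all_eq_true.1 chk2 r (List.mem_range.2 hr48)
      simpa using this
    intro row col hc hrow
    unfold ChevalleyDatum.xMat
    rw [Matrix.of_apply]
    rcases col with i | s
    · have hi : i.val < 2 := by simpa [inW] using hc
      rcases row with i' | u
      · have hi' : ¬ i'.val < 2 := by simpa [inW] using hrow
        have : i' ≠ i := by rintro rfl; exact hi' hi
        simp [this]
      · have hu : sh u.val = false := hrow
        dsimp only
        split
        · rename_i h
          have hur : u.val = r := congrArg Fin.val h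
          have h1 := List.all_eq_true.1 chk1 r (List.mem_range.2 hr48)
          rw [← hur, hu] at h1
          have h2 := List.all_eq_true.1 (by simpa using h1 :
            ((List.range 2).all fun i => ((chevF4.cartanSR.getD i #[]).getD u.val 0) % 2 == 0) = true) i.val
            (List.mem_range.2 hi)
          rw [← hur]
          rw [even_cast h2, neg_zero, zero_mul]
        · rfl
    · have hs : sh s.val = true := hc
      dsimp only
      split
      · rename_i h
        rcases row with i' | u
        · rfl
        · have hu : sh u.val = false := hrow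
          have : u ≠ ⟨r, hr⟩ := by
            rintro rfl
            rw [h] at hs
            rw [hs] at hu
            exact Bool.noConfusion hu
          simp [this]
      · split
        · rename_i h1 h
          have hsr : sh r = true := by
            rw [← hneg]
            have h' : s.val = chevF4.negIdx.getD r 0 := h
            rw [← h']
            exact hs
          rcases row with i' | u
          · have hi' : ¬ i'.val < 2 := by simpa [inW] using hrow
            have hi4 : i'.val < 4 := i'.2
            dsimp only
            have h2 : (((chevF4.coroot.getD r #[]).getD i'.val 0) % 2 == 0) = true := by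
              unfold sh at hsr
              rw [Bool.and_eq_true] at hsr
              have : i'.val = 2 ∨ i'.val = 3 := by omega
              rcases this with h | h
              · rw [h]; exact hsr.1
              · rw [h]; exact hsr.2
            rw [even_cast h2, zero_mul]
          · have hu : sh u.val = false := hrow
            have h2 : u ≠ s := by
              rintro rfl
              rw [hs] at hu
              exact Bool.noConfusion hu
            have h3 : u ≠ ⟨r, hr⟩ := by
              rintro rfl
              rw [hsr] at hu
              exact Bool.noConfusion hu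
            simp [h2, h3]
        · rcases row with i' | u
          · rfl
          · have hu : sh u.val = false := hrow
            have h2 : u ≠ s := by
              rintro rfl
              rw [hs] at hu
              exact Bool.noConfusion hu
            dsimp only
            rw [if_neg h2, zero_add]
            exact chain_zero hr48 hs hu t
  · exact BlockZ.one

/-- the elements of the generated groups -/
theorem word_block [CharP K 2] (w : List (ℕ × K)) : BlockZ (chevF4.wordMat K w) := by
  unfold ChevalleyDatum.wordMat
  induction w with
  | nil => exact BlockZ.one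
  | cons p w ih =>
    rw [List.map_cons, List.prod_cons]
    exact (x_block p.1 p.2).mul ih

theorem gen_block [CharP K 2] [Finite K] (S : Set (List (ℕ × K))) {g : GL chevF4.Idx K}
    (hg : g ∈ chevF4.genSubgroup K S) : BlockZ (g : Matrix chevF4.Idx chevF4.Idx K) := by
  unfold ChevalleyDatum.genSubgroup at hg
  have hfin : Finite (GL chevF4.Idx K) := inferInstance
  induction hg using Subgroup.closure_induction with
  | mem g h =>
    obtain ⟨w, _, hw⟩ := h
    rw [hw]
    exact word_block w
  | one => exact BlockZ.one
  | mul a b _ _ ha hb =>
    rw [Units.val_mul]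
    exact ha.mul hb
  | inv a _ ha =>
    have h1 : a⁻¹ = a ^ (orderOf a - 1) := by
      have h2 : a ^ (orderOf a - 1) * a = 1 := by
        rw [← pow_succ, Nat.sub_add_cancel (orderOf_pos a), pow_orderOf_eq_one]
      exact (eq_inv_of_mul_eq_one_left h2).symm
    rw [h1, Units.val_pow_eq_pow_val]
    generalize orderOf a - 1 = k
    induction k with
    | zero => rw [pow_zero]; exact BlockZ.one
    | succ k ih => rw [pow_succ]; exact ih.mul ha

/-- the index set of the submodule -/
abbrev WI : Type := {j : chevF4.Idx // inW j = true}

theorem card_WI : Fintype.card WI = 26 := by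
  rw [Fintype.card_subtype]
  (delta Cfsg.Agent.H969.TwF.inW Cfsg.Agent.H969.TwF.sh; rewrite [Cfsg.Agent.ChevFast.F4.coroot]; decide +kernel)

/-- restriction to the submodule -/
def sub (A : Matrix chevF4.Idx chevF4.Idx K) : Matrix WI WI K := A.submatrix Subtype.val Subtype.val

theorem sub_one : sub (1 : Matrix chevF4.Idx chevF4.Idx K) = 1 := by
  ext i j
  show (1 : Matrix chevF4.Idx chevF4.Idx K) i.1 j.1 = (1 : Matrix WI WI K) i j
  rw [Matrix.one_apply, Matrix.one_apply]
  simp only [Subtype.ext_iff]

theorem sub_mul {A B : Matrix chevF4.Idx chevF4.Idx K} (hB : BlockZ B) : sub (A * B) = sub A * sub B := by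
  ext i j
  show (A * B) i.1 j.1 = (sub A * sub B) i j
  rw [Matrix.mul_apply, Matrix.mul_apply]
  have h1 : ∑ k, A i.1 k * B k j.1 = ∑ k ∈ Finset.univ.filter (fun k => inW k = true), A i.1 k * B k j.1 := by
    refine (Finset.sum_subset (Finset.subset_univ _) ?_).symm
    intro k _ hk
    have : inW k = false := by simpa using hk
    rw [hB k j.1 j.2 this, mul_zero]
  have h2 : ∑ k ∈ Finset.univ.filter (fun k => inW k = true), A i.1 k * B k j.1 = ∑ k : WI, A i.1 k.1 * B k.1 j.1 :=
    Finset.sum_subtype _ (by simp) (fun k => A i.1 k * B k j.1)
  exact h1.trans h2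

/-- the representation on the submodule -/
def rhoM [CharP K 2] [Finite K] (S : Set (List (ℕ × K))) : ↥(chevF4.genSubgroup K S) →* Matrix WI WI K where
  toFun g := sub ((g : GL chevF4.Idx K) : Matrix chevF4.Idx chevF4.Idx K)
  map_one' := sub_one
  map_mul' _ b := sub_mul (gen_block S b.2)

/-- the representation on the submodule -/
def rho [CharP K 2] [Finite K] (S : Set (List (ℕ × K))) : ↥(chevF4.genSubgroup K S) →* GL WI K := (rhoM S).toHomUnits

end

end Cfsg.Agent.H969.TwF

private theorem dce_32f4263cfa5e : _root_.True := by
  try have : _root_.True := by simp only [_root_.Cfsg.Agent.H969.TwF.inW.eq_2]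
  try have : _root_.True := by simp only [_root_.Cfsg.Agent.H969.TwF.inW.eq_1]
  exact _root_.True.intro
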